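import Groth.Agent.L07.Spalt.Tower
import Groth.Agent.L10.ExactProd
import Groth.Agent.L10.HomotopyProd
import Groth.Agent.L10.InjAmpGen
import Groth.Agent.L10.KInj
import Groth.Agent.L04.DerComp.AffineAdicMain
import Mathlib.Algebra.Homology.Factorizations.CM5a
import Mathlib.Algebra.Homology.DerivedCategory.ShortExact

/-! K-injective resolutions from enough injectives and exact countable products. -/

universe w v u

open CategoryTheory CategoryTheory.Limits CategoryTheory.Pretriangulated

set_option backward.defeqAttrib.useBackward true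
set_option backward.isDefEq.respectTransparency false

namespace Groth.L07.Spalt

variable {A : Type u} [Category.{v} A] [Abelian A]

theorem isKInjective_prod {ι : Type} [HasProductsOfShape ι A] (I : ι → CochainComplex A ℤ)
    (h : ∀ i, (I i).IsKInjective) : (∏ᶜ I).IsKInjective := by
  refine ⟨fun {K} f hK => ⟨HomotopyCategory.homotopyOfEq _ _ ?_⟩⟩
  refine (Groth.L10.HomotopyProd.hom_to_product_bijective I
    ((HomotopyCategory.quotient A (ComplexShape.up ℤ)).obj K)).injective (funext fun i => ?_)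
  haveI := h i
  simp only [← Functor.map_comp]
  exact HomotopyCategory.eq_of_homotopy _ _
    ((CochainComplex.IsKInjective.homotopyZero (f ≫ Pi.π I i) hK).trans (Homotopy.ofEq (by simp)))

/-- The map `1 - shift` of a tower. -/
noncomputable def oneSub {B : Type*} [Category B] [Preadditive B]
    {X : ℕ → B} [HasProduct X] (q : ∀ n, X (n + 1) ⟶ X n) : ∏ᶜ X ⟶ ∏ᶜ X :=
  Pi.lift fun n => Pi.π X n - Pi.π X (n + 1) ≫ q n

variable [HasLimitsOfShape (Discrete ℕ) A] (K : CochainComplex A ℤ)
  (q : ∀ n, tau K (n + 1) ⟶ tau K n) (hq : ∀ n, prj K (n + 1) ≫ q n = prj K n)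

/-- The sequence `K → ∏ τ → ∏ τ`. -/
noncomputable def seq : ShortComplex (CochainComplex A ℤ) :=
  ShortComplex.mk (Pi.lift fun n => prj K n) (oneSub q) (by
    refine Limits.Pi.hom_ext _ _ fun n => ?_
    simp [oneSub, hq])

theorem shortExact_seq : (seq K q hq).ShortExact := by
  refine HomologicalComplex.shortExact_of_degreewise_shortExact _ fun i => ?_
  let N : ℕ := (1 - i).toNat
  have hp : ∀ n, N ≤ n → IsIso ((prj K n).f i) := fun n hn => isIso_π_f K _ i (by
    have : N = (1 - i).toNat := rfl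
    omega)
  have hqi : ∀ n, N ≤ n → IsIso ((q n).f i) := fun n hn => by
    haveI := hp n hn
    haveI := hp (n + 1) (by omega)
    have e : (prj K (n + 1)).f i ≫ (q n).f i = (prj K n).f i := by
      rw [← HomologicalComplex.comp_f, hq]
    exact IsIso.of_isIso_fac_left e
  let hl := isLimitOfHasProductOfPreservesLimit (HomologicalComplex.eval A (ComplexShape.up ℤ) i)
    (fun n => tau K n)
  have hf : ∀ n, (Pi.lift fun n => prj K n : K ⟶ _).f i ≫ (Pi.π (fun n => tau K n) n).f i =
      (prj K n).f i := fun n => by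
    rw [← HomologicalComplex.comp_f, Pi.lift_π]
  have hg : ∀ n, (oneSub q).f i ≫ (Pi.π (fun n => tau K n) n).f i =
      (Pi.π (fun n => tau K n) n).f i - (Pi.π (fun n => tau K n) (n + 1)).f i ≫ (q n).f i := fun n => by
    rw [← HomologicalComplex.comp_f, oneSub, Pi.lift_π]
    rfl
  haveI hpN := hp N le_rfl
  have hmono : Mono ((Pi.lift fun n => prj K n : K ⟶ _).f i) := mono_of_mono_fac (hf N)
  have hepi : Epi ((oneSub q).f i) := by
    obtain ⟨s, hs⟩ := exists_solution N (fun n => (tau K n).X i) (fun n => (q n).f i) hqi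
      (fun n => (Pi.π (fun n => tau K n) n).f i)
    refine (IsSplitEpi.mk' ⟨Fan.IsLimit.lift hl s, Fan.IsLimit.hom_ext hl _ _ fun n => ?_⟩).epi
    change (Fan.IsLimit.lift hl s ≫ (oneSub q).f i) ≫ (Pi.π (fun n => tau K n) n).f i =
      𝟙 _ ≫ (Pi.π (fun n => tau K n) n).f i
    have hfac : ∀ m, Fan.IsLimit.lift hl s ≫ (Pi.π (fun n => tau K n) m).f i = s m :=
      fun m => Fan.IsLimit.fac hl _ m
    rw [Category.assoc, hg, Preadditive.comp_sub, hfac, ← Category.assoc, hfac, Category.id_comp]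
    exact hs n
  refine { exact := ?_, mono_f := hmono, epi_g := hepi }
  haveI : Mono ((seq K q hq).map (HomologicalComplex.eval A (ComplexShape.up ℤ) i)).f := hmono
  refine ShortComplex.exact_of_f_is_kernel _ (KernelFork.IsLimit.ofι' _ _ fun {T} w hw =>
    ⟨(w ≫ (Pi.π (fun n => tau K n) N).f i) ≫ inv ((prj K N).f i), ?_⟩)
  change T ⟶ (∏ᶜ fun n => tau K n).X i at w
  change w ≫ (oneSub q).f i = 0 at hw
  change _ ≫ (Pi.lift fun n => prj K n : K ⟶ _).f i = w
  refine Fan.IsLimit.hom_ext hl _ _ fun n => ?_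
  change ((_ : T ⟶ K.X i) ≫ (Pi.lift fun n => prj K n : K ⟶ _).f i) ≫ (Pi.π (fun n => tau K n) n).f i =
    w ≫ (Pi.π (fun n => tau K n) n).f i
  let v := (w ≫ (Pi.π (fun n => tau K n) N).f i) ≫ inv ((prj K N).f i)
  rw [Category.assoc, hf, ← sub_eq_zero]
  refine eq_zero_of_step (fun n => (tau K n).X i) (fun n => (q n).f i) N hqi
    (fun n => v ≫ (prj K n).f i - w ≫ (Pi.π (fun n => tau K n) n).f i) (fun m => ?_) (by simp [v]) n
  have h1 : (prj K (m + 1)).f i ≫ (q m).f i = (prj K m).f i := by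
    rw [← HomologicalComplex.comp_f, hq]
  have h2 : w ≫ (Pi.π (fun n => tau K n) m).f i =
      (w ≫ (Pi.π (fun n => tau K n) (m + 1)).f i) ≫ (q m).f i := by
    have := congrArg (· ≫ (Pi.π (fun n => tau K n) m).f i) hw
    simp only [Category.assoc, zero_comp, hg, Preadditive.comp_sub, sub_eq_zero] at this
    rw [Category.assoc]
    exact this
  simp only [v, Preadditive.sub_comp, Category.assoc, h1]
  rw [h2, Category.assoc]

theorem exists_kInjective [EnoughInjectives A] [HasExactLimitsOfShape (Discrete ℕ) A] :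
    ∃ (I : CochainComplex A ℤ) (f : K ⟶ I), I.IsKInjective ∧ QuasiIso f := by
  letI := HasDerivedCategory.standard A
  haveI : (lim : (Discrete ℕ ⥤ A) ⥤ A).PreservesEpimorphisms := inferInstance
  choose q hq using exists_trans K
  have hres : ∀ n : ℕ, ∃ (L : CochainComplex A ℤ) (i : tau K n ⟶ L) (_ : Mono i) (_ : QuasiIso i),
      (∀ j, Injective (L.X j)) ∧ L.IsKInjective := fun n => by
    obtain ⟨L, i, hi, hi', hL, hLn⟩ :=
      CochainComplex.Plus.modelCategoryQuillen.exists_mono_quasiIso_injective (tau K n) (-(n : ℤ) - 1) (-(n : ℤ))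
    exact ⟨L, i, hi, hi', hL, CochainComplex.isKInjective_of_injective L (-(n : ℤ) - 1)⟩
  choose L ι hι hqι hinj hKinj using hres
  have hext : ∀ n, ∃ f : L (n + 1) ⟶ L n, ι (n + 1) ≫ f = q n ≫ ι n := fun n => by
    haveI := hι (n + 1)
    haveI := hqι (n + 1)
    haveI := hKinj n
    haveI := hinj n
    let S := ShortComplex.mk (ι (n + 1)) (cokernel.π (ι (n + 1))) (cokernel.condition (ι (n + 1)))
    have hS : S.ShortExact := { exact := ShortComplex.exact_cokernel (ι (n + 1)) }
    exact Groth.L10.exists_extension S hS (hS.acyclic_X₃ inferInstance) (L n) (q n ≫ ι n)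
  choose f hf using hext
  haveI := hqι
  let ψ : ∏ᶜ (fun n => tau K n) ⟶ ∏ᶜ L := Limits.Pi.map ι
  haveI : QuasiIso ψ := Groth.L10.ExactProd.quasiIso_piMap ι
  haveI : (∏ᶜ L).IsKInjective := isKInjective_prod L hKinj
  have hsq : oneSub q ≫ ψ = ψ ≫ oneSub f := by
    refine Limits.Pi.hom_ext _ _ fun n => ?_
    simp [oneSub, ψ, hf]
  let C := CochainComplex.mappingCone (oneSub f)
  let I := C⟦(-1 : ℤ)⟧
  haveI hI : I.IsKInjective := by
    haveI : C.IsKInjective := Groth.L04.DerComp.isKInjective_mappingCone (oneSub f)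
    exact (CochainComplex.isKInjective_shift_iff C (-1)).2 inferInstance
  let hS := shortExact_seq K q hq
  let T₁ := DerivedCategory.triangleOfSES hS
  have hT₁ := DerivedCategory.triangleOfSES_distinguished hS
  let T₂ := (DerivedCategory.Q.mapTriangle.obj (CochainComplex.mappingCone.triangle (oneSub f))).invRotate
  have hT₂ : T₂ ∈ distTriang _ := inv_rot_of_distTriang _
    ((DerivedCategory.mem_distTriang_iff _).2 ⟨_, _, oneSub f, ⟨Iso.refl _⟩⟩)
  obtain ⟨a, ha₁, ha₃⟩ := complete_distinguished_triangle_morphism₁ T₁ T₂ hT₁ hT₂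
    (DerivedCategory.Q.map ψ) (DerivedCategory.Q.map ψ) (by
      change DerivedCategory.Q.map (oneSub q) ≫ DerivedCategory.Q.map ψ =
        DerivedCategory.Q.map ψ ≫ DerivedCategory.Q.map (oneSub f)
      rw [← Functor.map_comp, ← Functor.map_comp, hsq])
  have hψ : IsIso (DerivedCategory.Q.map ψ) := inferInstance
  haveI : IsIso a :=
    isIso₁_of_isIso₂₃ (Triangle.homMk T₁ T₂ a (DerivedCategory.Q.map ψ) (DerivedCategory.Q.map ψ) ha₁
      (by
        change DerivedCategory.Q.map (oneSub q) ≫ DerivedCategory.Q.map ψ =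
          DerivedCategory.Q.map ψ ≫ DerivedCategory.Q.map (oneSub f)
        rw [← Functor.map_comp, ← Functor.map_comp, hsq]) ha₃) hT₁ hT₂
      hψ hψ
  let e : DerivedCategory.Q.obj K ⟶ DerivedCategory.Q.obj I :=
    a ≫ ((DerivedCategory.Q.commShiftIso (-1 : ℤ)).app C).inv
  obtain ⟨φ, hφ⟩ := Groth.L10.InjAmpGen.exists_Q_map e
  refine ⟨I, φ, hI, ?_⟩
  rw [← DerivedCategory.isIso_Q_map_iff_quasiIso]
  rw [hφ]
  exact IsIso.comp_isIso

end Groth.L07.Spalt
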