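import Mathlib.Algebra.Homology.Embedding.CochainComplex
import Mathlib.Algebra.Homology.HomologicalComplexLimits
import Mathlib.Algebra.Homology.ShortComplex.ShortExact

/-! Eventually constant towers, and the tower of truncations of a complex. -/

universe v u

open CategoryTheory CategoryTheory.Limits

set_option backward.defeqAttrib.useBackward true
set_option backward.isDefEq.respectTransparency false

namespace Groth.L07.Spalt

variable {A : Type u} [Category.{v} A] [Abelian A]

theorem exists_solution (N : ℕ) : ∀ (X : ℕ → A) (q : ∀ n, X (n + 1) ⟶ X n) (_ : ∀ n, N ≤ n → IsIso (q n))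
    {T : A} (y : ∀ n, T ⟶ X n), ∃ x : ∀ n, T ⟶ X n, ∀ n, x n - x (n + 1) ≫ q n = y n := by
  induction N with
  | zero =>
    intro X q hq T y
    haveI : ∀ n, IsIso (q n) := fun n => hq n (Nat.zero_le n)
    let x : ∀ n, T ⟶ X n := fun n => Nat.rec (motive := fun n => T ⟶ X n) 0
      (fun n xn => (xn - y n) ≫ inv (q n)) n
    refine ⟨x, fun n => ?_⟩
    show x n - ((x n - y n) ≫ inv (q n)) ≫ q n = y n
    simp
  | succ N ih =>
    intro X q hq T y
    obtain ⟨x', hx'⟩ := ih (fun n => X (n + 1)) (fun n => q (n + 1)) (fun n hn => hq (n + 1) (by omega))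
      (fun n => y (n + 1))
    let x : ∀ n, T ⟶ X n := fun n => match n with
      | 0 => y 0 + x' 0 ≫ q 0
      | n + 1 => x' n
    refine ⟨x, fun n => ?_⟩
    cases n with
    | zero => simp [x]
    | succ n => exact hx' n

theorem eq_zero_of_step (X : ℕ → A) (q : ∀ n, X (n + 1) ⟶ X n) (N : ℕ) (hq : ∀ n, N ≤ n → IsIso (q n))
    {T : A} (w : ∀ n, T ⟶ X n) (h : ∀ n, w n = w (n + 1) ≫ q n) (hN : w N = 0) (n : ℕ) : w n = 0 := by
  by_cases hn : N ≤ n
  · induction n, hn using Nat.le_induction with
    | base => exact hN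
    | succ m hm ih =>
      haveI := hq m hm
      rw [← cancel_mono (q m), ← h m, ih, zero_comp]
  · have hn' : n ≤ N := by omega
    induction hn' using Nat.decreasingInduction with
    | self => exact hN
    | of_succ m hm ih =>
      rw [h m]
      by_cases hm' : N ≤ m + 1
      · obtain rfl : N = m + 1 := by omega
        rw [hN, zero_comp]
      · rw [ih (by omega), zero_comp]

variable (K : CochainComplex A ℤ)

theorem isIso_π_f (a i : ℤ) (hi : a < i) : IsIso ((K.πTruncGE a).f i) := by
  have h : (ComplexShape.embeddingUpIntGE a).f (i - a).natAbs = i := by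
    dsimp; rw [Int.natAbs_of_nonneg (by omega)]; omega
  have hb : ¬ (ComplexShape.embeddingUpIntGE a).BoundaryGE (i - a).natAbs := by
    rw [ComplexShape.boundaryGE_embeddingUpIntGE_iff]; omega
  have := K.isIso_restrictionToTruncGE' (ComplexShape.embeddingUpIntGE a) _ hb
  dsimp [CochainComplex.πTruncGE, HomologicalComplex.πTruncGE]
  rw [(ComplexShape.embeddingUpIntGE a).isIso_liftExtend_f_iff _ _ h]
  infer_instance

theorem epi_π_f (a i : ℤ) : Epi ((K.πTruncGE a).f i) := by
  dsimp [CochainComplex.πTruncGE]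
  infer_instance

/-- The truncation `τ_{≥ -n} K`. -/
noncomputable abbrev tau (n : ℕ) : CochainComplex A ℤ := K.truncGE (-(n : ℤ))

/-- The projection to the truncation. -/
noncomputable abbrev prj (n : ℕ) : K ⟶ tau K n := K.πTruncGE (-(n : ℤ))

theorem exists_trans (n : ℕ) : ∃ q : tau K (n + 1) ⟶ tau K n, prj K (n + 1) ≫ q = prj K n := by
  classical
  have hep : ∀ i, Epi ((prj K (n + 1)).f i) := fun i => epi_π_f K _ i
  let f : ∀ i, (tau K (n + 1)).X i ⟶ (tau K n).X i := fun i =>
    if h : -(n : ℤ) ≤ i then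
      haveI : IsIso ((prj K (n + 1)).f i) := isIso_π_f K _ i (by push_cast; omega)
      inv ((prj K (n + 1)).f i) ≫ (prj K n).f i
    else 0
  have hf : ∀ i, (prj K (n + 1)).f i ≫ f i = (prj K n).f i := by
    intro i
    by_cases h : -(n : ℤ) ≤ i
    · simp [f, h]
    · exact ((tau K n).isZero_of_isStrictlyGE (-(n : ℤ)) i (by omega)).eq_of_tgt _ _
  refine ⟨{ f := f, comm' := fun i j hij => ?_ }, ?_⟩
  · haveI := hep i
    rw [← cancel_epi ((prj K (n + 1)).f i), reassoc_of% hf i]
    rw [(prj K n).comm i j, (prj K (n + 1)).comm_assoc i j, hf]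
  · ext i
    exact hf i

end Groth.L07.Spalt
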